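import Mathlib
import Groth.Agent.WEtLib.Normal
import Groth.Agent.WEtLib.Basic

/-!
# Normality ascends along weakly étale local algebras
-/

set_option autoImplicit false
set_option linter.style.haveILetI false
universe u
open scoped TensorProduct

namespace Groth.Agent.WEtLib

theorem isDomain_and_isIntegrallyClosed_of_isLocalRing {A B : Type u} [CommRing A] [IsDomain A]
    [IsIntegrallyClosed A] [CommRing B] [Algebra A B] [Algebra.WeaklyEtale A B] [IsLocalRing B] :
    IsDomain B ∧ IsIntegrallyClosed B := by
  let K := FractionRing A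
  let M := B ⊗[A] K
  haveI hcl : IsIntegrallyClosedIn B M := isIntegrallyClosedIn_tensor K B
  have hinj : Function.Injective (algebraMap B M) := includeLeft_injective_of_flat K B
  haveI : Nontrivial M := hinj.nontrivial
  have hvnr : ∀ a : M, ∃ r, a = a * a * r := fun a => by
    let e : K ⊗[A] B ≃ₐ[A] M := Algebra.TensorProduct.comm A K B
    obtain ⟨r, hr⟩ := exists_mul_eq (K := K) (R := K ⊗[A] B) (e.symm a)
    refine ⟨e r, e.symm.injective ?_⟩
    simp only [map_mul, e.symm_apply_apply]
    exact hr
  have hid : ∀ e : M, IsIdempotentElem e → e = 0 ∨ e = 1 := fun e he => by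
    have hint : IsIntegral B e := by
      refine ⟨Polynomial.X ^ 2 - Polynomial.X, Polynomial.monic_X_pow_sub (by simp), ?_⟩
      simp [Polynomial.eval₂_sub, pow_two, he.eq]
    obtain ⟨b, rfl⟩ := IsIntegrallyClosedIn.algebraMap_eq_of_integral hint
    have hb : IsIdempotentElem b := hinj (by rw [map_mul]; exact he.eq)
    rcases (IsLocalRing.isUnit_or_isUnit_one_sub_self b) with hu | hu
    · right
      rw [show b = 1 from (IsIdempotentElem.iff_eq_one_of_isUnit hu).1 hb, map_one]
    · left
      rw [show b = 0 by
        simpa using (IsIdempotentElem.iff_eq_one_of_isUnit hu).1 hb.one_sub, map_zero]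
  letI : Field M := (isField_of_forall_exists hvnr hid).toField
  haveI : IsDomain B := hinj.isDomain (algebraMap B M)
  refine ⟨inferInstance, (isIntegrallyClosed_iff_isIntegrallyClosedIn (FractionRing B)).2 ?_⟩
  exact AlgHom.isIntegrallyClosedIn
    (IsFractionRing.liftAlgHom (g := Algebra.ofId B M) hinj : FractionRing B →ₐ[B] M) (RingHom.injective _) hcl

end Groth.Agent.WEtLib
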